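import Mathlib
import Cfsg.Agent.H64.CrossChev
import Cfsg.Agent.KFacts.MulOdd.InstTw
set_option linter.all false

/-!
# Cross characteristic: the twisted groups `³D₄(q)`, `²E₆(q)`

* `fold_card_ker_dvd` : a finite perfect central extension, with kernel of order prime to `p`, of a group obtained by
  folding satisfies `|ker| ∣ d`, `d * |T| = ∏ (q_i - 1)`;
* `noCov_D4` : `³D₄(q)` has no perfect central extension with kernel of prime order `r ≠ p`;
* `ker_E6` : for `²E₆(q)` the order of the kernel divides `gcd (3, q + 1)`.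
-/

set_option autoImplicit false
set_option linter.unusedSectionVars false
set_option linter.style.haveILetI false
set_option maxHeartbeats 400000

namespace Cfsg.Agent.H59.CrossTw

open CoxeterSystem Cfsg.Agent.ChevalleyStructure.CoxeterGeom Cfsg.Agent.Tits.Roots Cfsg.Agent.Tits.Core
  Cfsg.Agent.Tits.RootComb Cfsg.Agent.Nodes.Comb Cfsg.Agent.Nodes.Reps Cfsg.Agent.Nodes.BNOf
  Cfsg.Agent.Nodes.BNOf.RGD
open Cfsg.Lie Cfsg.Agent.ChevalleyStructure Cfsg.Agent.ChevalleyStructure.Elts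
  Cfsg.Agent.Nodes.RGDChev Cfsg.Agent.Nodes.RGDFold Cfsg.Agent.Nodes.RGDFoldSL
  Cfsg.Agent.KFacts.MulOdd.Inst Cfsg.Agent.H67.Cross Cfsg.Agent.H51.Mult Cfsg.Agent.H64.CrossChev
open Cfsg.Agent.KFacts.MulOdd.Node (up_zero up_mul up_inv hS_up hS_one hS_neg_one)
open Cfsg.Agent.KFacts.MulOdd.InstTw (parityTw parityTw_spec coe_hv_neg_one)
open Cfsg.Agent.ChevalleyStructure.SL2Hom (up lo mem_closure_SL2)
open scoped MatrixGroups

section Fold

variable {D : ChevalleyDatum} {l : ℕ} {M' : CoxeterMatrix (Fin l)} {hp : IsType D l M'} {K : Type} [Field K]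
  {m : ℕ} {M : CoxeterMatrix (Fin m)} {W : Type*} [Group W] (cs : CoxeterSystem M W)
  {A : Fin m → Fin m → ℤ} (h : IsCartan M A)
  {J : Fin m → List (Fin l)} {L : List (List ℕ)} {σ : GL D.Idx K →* GL D.Idx K} {ρ ρ' : ℕ → ℕ}
  {f : ℕ → K → K} {G : Subgroup (GL D.Idx K)}

theorem nd_fold [Finite K] (FG : FoldGrp hp K J L σ ρ ρ' f G) {i : Fin m} {r : ℕ}
    {o : List ℕ} (N : NodeOK D J L ρ i r o) {φ : K →+* K} (hf : ∀ s ∈ r :: o, ∀ t, f s t = φ t)
    {t : ℕ} (ht : t < D.nroots)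
    (he : ((r :: o).map fun s => HMatDiagAll.expo D s t).sum % 2 = 1) :
    Nd ((D.diagonalSubgroup K ⊓ G).subgroupOf G) (fun i => (⟨nI hp K (J i), FG.nG i⟩ : ↥G))
      (fun z => (R D hp K J σ z).subgroupOf G) i (Phi FG N hf) := by
  constructor
  · intro y
    rw [mem_X_iff FG N hf]
    exact ⟨fun ⟨a, e⟩ => ⟨a, e.symm⟩, fun ⟨a, e⟩ => ⟨a, e.symm⟩⟩
  · intro a ha
    refine Phi_up_injective FG N hf ?_
    show Phi FG N hf (SL2Hom.up a) = Phi FG N hf (SL2Hom.up 0)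
    rw [up_zero, map_one]
    exact ha
  · intro c hc
    exact Phi_hS FG N hf hc
  · exact Phi_wS FG N hf
  · intro h0
    by_cases h2 : (2 : K) = 0
    · refine neg_one_eq ?_
      exact Subtype.ext h2
    exfalso
    have h1 : Ph hp K N φ (Matrix.SpecialLinearGroup.map (Fx φ (o.length + 1)).subtype (-1)) = 1 :=
      congrArg Subtype.val h0
    rw [← hS_neg_one, map_hS, map_neg, map_one] at h1
    have h3 : hv (psi hp.inList K) φ (r :: o) (hS (-1)) = 1 := h1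
    have h4 := coe_hv_neg_one hp.inList φ N.lt
    rw [h3, Units.val_one] at h4
    have h5 := congrFun (congrFun h4 (Sum.inr ⟨t, ht⟩)) (Sum.inr ⟨t, ht⟩)
    rw [Matrix.diagonal_apply_eq, Matrix.one_apply_eq, Sum.elim_inr,
      Cfsg.Agent.KFacts.MulOdd.InstChev.zpow_odd he] at h5
    apply h2
    linear_combination h5

theorem fold_card_ker_mul_dvd [Finite K] (p : ℕ) [CharP K p]
    (h : IsCartan M A) (FD : FoldData D M A J L) (FG : FoldGrp hp K J L σ ρ ρ' f G) (r : Fin m → ℕ)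
    (o : Fin m → List ℕ) (N : ∀ i, NodeOK D J L ρ i (r i) (o i)) {φ : K →+* K}
    (hf : ∀ i, ∀ s ∈ r i :: o i, ∀ t, f s t = φ t)
    (hpar : ∀ i, ∃ t, t < D.nroots ∧ ((r i :: o i).map fun s => HMatDiagAll.expo D s t).sum % 2 = 1)
    {L' : Type} [Group L'] [Finite L'] {π : L' →* ↥G} (hd : PCE π) (hcop : (Nat.card π.ker).Coprime p) :
    Nat.card π.ker * Nat.card ↥(D.diagonalSubgroup K ⊓ G) ∣ ∏ i, (Nat.card (Fx φ ((o i).length + 1)) - 1) := by
  have hpp : p.Prime := CharP.char_is_prime K p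
  have : Fact p.Prime := ⟨hpp⟩
  have : Finite M.Group := finite_W (hp := hp) M.toCoxeterSystem h FD
  have hR := Nodes.RGDFold.rgd M.toCoxeterSystem h FD FG p
  have hgen := Nodes.RGDFold.G1_eq_top M.toCoxeterSystem h FD FG p
  have hN : ∀ i, Nd ((D.diagonalSubgroup K ⊓ G).subgroupOf G) (fun i => (⟨nI hp K (J i), FG.nG i⟩ : ↥G))
      (fun z => (R D hp K J σ z).subgroupOf G) i (Phi FG (N i) (hf i)) := by
    intro i
    obtain ⟨t, ht, he⟩ := hpar i
    exact nd_fold FG (N i) (hf i) ht he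
  have hrk : ∀ (i : Fin m) (r : ℕ), r.Prime → r ∣ Nat.card π.ker →
      NoCE p r ↥(Lv (fun z => (R D hp K J σ z).subgroupOf G) i) := by
    intro i r hr hrd
    have hne : r ≠ p := by
      rintro rfl
      have := Nat.Coprime.eq_one_of_dvd hcop.symm hrd
      exact hr.one_lt.ne' this
    have hch : CharP (Fx φ ((o i).length + 1)) p :=
      (RingHom.charP_iff (Fx φ _).subtype (Fx φ _).subtype_injective p).2 inferInstance
    exact (hN i).noCE hR (noCE_SL hpp hr hne)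
  have h1 := Cfsg.Agent.H64.Cross.card_ker_mul_dvd (cs := M.toCoxeterSystem) (h := h) (p := p)
    (T := (D.diagonalSubgroup K ⊓ G).subgroupOf G) (n := fun i => (⟨nI hp K (J i), FG.nG i⟩ : ↥G))
    (X := fun z => (R D hp K J σ z).subgroupOf G) (π := π) hpp hd hcop hR hgen hrk
  have h2 : Nat.card ↥((D.diagonalSubgroup K ⊓ G).subgroupOf G) = Nat.card ↥(D.diagonalSubgroup K ⊓ G) :=
    Nat.card_congr (Subgroup.subgroupOfEquivOfLe inf_le_right).toEquiv
  rw [h2] at h1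
  have h3 : ∀ i, Nat.card ↥((D.diagonalSubgroup K ⊓ G).subgroupOf G ⊓
      Lv (fun z => (R D hp K J σ z).subgroupOf G) i) ∣ Nat.card (Fx φ ((o i).length + 1)) - 1 := by
    intro i
    have h4 := Nd.card_torus hR (hN i)
    exact h4
  exact h1.trans (Finset.prod_dvd_prod_of_dvd _ _ fun i _ => h3 i)

end Fold

/-- The order of `{x | φ x = x}`, `φ x = x ^ q`. -/
theorem card_Fx_one {K : Type} [Field K] [Fintype K] {q : ℕ} (hq : 1 < q) {n : ℕ}
    (hK : Fintype.card K = q ^ n) {φ : K →+* K} (hφ : ∀ x, φ x = x ^ q) :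
    Nat.card (Fx φ 1) - 1 = q - 1 := by
  rw [← Nat.card_units, ← D4H1.card_fixed hq hK hφ]
  refine Nat.card_congr
    { toFun := fun u => (⟨Units.map ((Fx φ 1).subtype : Fx φ 1 →* K) u, mem_Fx.1 (u : Fx φ 1).2⟩ :
        {b : Kˣ // φ b = b})
      invFun := fun b =>
        ⟨⟨(b : Kˣ), mem_Fx.2 b.2⟩, ⟨((b : Kˣ)⁻¹ : Kˣ), mem_Fx.2 (by
          show φ ((b : Kˣ)⁻¹ : Kˣ) = ((b : Kˣ)⁻¹ : Kˣ)
          rw [Units.val_inv_eq_inv_val, map_inv₀, b.2])⟩,
          Subtype.ext (by simp), Subtype.ext (by simp)⟩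
      left_inv := fun u => by ext; rfl
      right_inv := fun b => by ext; rfl }

theorem card_Fx_eq {K : Type} [Field K] [Fintype K] {q : ℕ} {n : ℕ}
    (hK : Fintype.card K = q ^ n) {φ : K →+* K} (hφ : ∀ x, φ x = x ^ q) :
    Nat.card (Fx φ n) = q ^ n := by
  have h1 : ∀ (k : ℕ) (x : K), (φ^[k]) x = x ^ q ^ k := by
    intro k
    induction k with
    | zero => intro x; simp
    | succ k ih => intro x; rw [Function.iterate_succ', Function.comp_apply, ih, hφ, ← pow_mul, pow_succ]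
  have h2 : ∀ x : K, x ∈ Fx φ n := fun x => mem_Fx.2 (by rw [h1, ← hK, FiniteField.pow_card])
  rw [← hK, ← Nat.card_eq_fintype_card]
  exact Nat.card_congr (Equiv.subtypeUnivEquiv h2)

variable {K : Type} [Field K] [Fintype K] {q : ℕ} (hq : IsPrimePow q) (p : ℕ) [CharP K p]

include hq

/-- **`³D₄(q)`.** -/
theorem ker_D4 (hK : Fintype.card K = q ^ 3) {L : Type} [Group L] [Finite L] {π : L →* ↥(twistedD4 K q)}
    (hd : PCE π) (hcop : (Nat.card π.ker).Coprime p) : Nat.card π.ker = 1 := by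
  obtain ⟨φ, hφ⟩ := D4Fixed.exists_frob hq hK
  have h1 := fold_card_ker_mul_dvd p Nodes.RGDTwD4.isCartan Nodes.RGDTwD4.foldData
    (Nodes.RGDTwD4.foldGrp hφ (D4Fixed.twisted_le_fix hK hφ)) _ _ Nodes.RGDTwNode.D4.nodeOK (φ := φ)
    (fun i s hs t => by rw [Nodes.RGDTwNode.D4.eps_one i s hs, Int.cast_one, one_mul])
    (parityTw_spec Cfsg.Agent.KFacts.MulOdd.InstTw.parity_D4) hd hcop
  rw [Cfsg.Agent.S1106.result hq hK, Fin.prod_univ_two] at h1
  have h2 : Nat.card (Fx φ (0 + 1)) - 1 = q - 1 := card_Fx_one hq.one_lt hK hφ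
  have h3 : Nat.card (Fx φ (2 + 1)) - 1 = q ^ 3 - 1 := by rw [card_Fx_eq hK hφ]
  have h4 : (q - 1) * (q ^ 3 - 1) = (q - 1) ^ 2 * (q ^ 2 + q + 1) := by
    obtain ⟨m, rfl⟩ : ∃ m, q = m + 1 := ⟨q - 1, (Nat.sub_add_cancel hq.one_lt.le).symm⟩
    have e : (m + 1) ^ 3 - 1 = m * ((m + 1) ^ 2 + (m + 1) + 1) := by
      apply Nat.sub_eq_of_eq_add
      ring
    rw [e, Nat.add_sub_cancel]
    ring
  have h5 : Nat.card π.ker * ((q - 1) ^ 2 * (q ^ 2 + q + 1)) ∣ (q - 1) ^ 2 * (q ^ 2 + q + 1) := by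
    refine h1.trans (dvd_of_eq ?_)
    rw [← h4, ← h2, ← h3]
    rfl
  have h6 : 0 < (q - 1) ^ 2 * (q ^ 2 + q + 1) := by
    have := hq.one_lt
    have : 0 < q - 1 := by omega
    positivity
  have h7 : Nat.card π.ker ∣ 1 := by
    refine Nat.dvd_of_mul_dvd_mul_right h6 ?_
    rwa [one_mul]
  exact Nat.dvd_one.1 h7

theorem noCov_D4 (hK : Fintype.card K = q ^ 3) {r : ℕ} (hr : r.Prime) (hne : r ≠ p) :
    NoCov r ↥(twistedD4 K q) := by
  intro L _ _ π hd hk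
  have hpp : p.Prime := CharP.char_is_prime K p
  have h1 := ker_D4 hq p hK hd (by rw [hk]; exact (Nat.coprime_primes hr hpp).2 hne)
  rw [hk] at h1
  exact hr.one_lt.ne' h1

/-- **`²E₆(q)`.** -/
theorem ker_E6 (hK : Fintype.card K = q ^ 2) {L : Type} [Group L] [Finite L] {π : L →* ↥(twistedE6 K q)}
    (hd : PCE π) (hcop : (Nat.card π.ker).Coprime p) : Nat.card π.ker ∣ Nat.gcd 3 (q + 1) := by
  obtain ⟨φ, hφ, hqq⟩ := TwE6Basic.exists_frob hq hK
  have h1 := fold_card_ker_mul_dvd p Nodes.RGDTwE6.isCartan Nodes.RGDTwE6.foldData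
    (Nodes.RGDTwE6.foldGrp hφ hqq) _ _ Nodes.RGDTwNode.E6.nodeOK (φ := φ)
    (fun i s hs t => by rw [Nodes.RGDTwNode.E6.eps_one i s hs, Int.cast_one, one_mul])
    (parityTw_spec Cfsg.Agent.KFacts.MulOdd.InstTw.parity_E6) hd hcop
  have hT := Cfsg.Agent.S1102.result hq hK
  rw [Fin.prod_univ_four] at h1
  have h2 : Nat.card (Fx φ (0 + 1)) - 1 = q - 1 := card_Fx_one hq.one_lt hK hφ
  have h3 : Nat.card (Fx φ (1 + 1)) - 1 = q ^ 2 - 1 := by rw [card_Fx_eq hK hφ]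
  have h4 : (q - 1) * (q - 1) * (q ^ 2 - 1) * (q ^ 2 - 1) = (q - 1) ^ 4 * (q + 1) ^ 2 := by
    obtain ⟨m, rfl⟩ : ∃ m, q = m + 1 := ⟨q - 1, (Nat.sub_add_cancel hq.one_lt.le).symm⟩
    have e : (m + 1) ^ 2 - 1 = m * (m + 2) := by
      apply Nat.sub_eq_of_eq_add
      ring
    rw [e, Nat.add_sub_cancel]
    ring
  have h5 : Nat.card π.ker * Nat.card ↥(chevE6.diagonalSubgroup K ⊓ twistedE6 K q) ∣ (q - 1) ^ 4 * (q + 1) ^ 2 := by
    refine h1.trans (dvd_of_eq ?_)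
    rw [← h4, ← h2, ← h3]
    rfl
  rw [← hT] at h5
  have h6 : 0 < Nat.card ↥(chevE6.diagonalSubgroup K ⊓ twistedE6 K q) := by
    rcases Nat.eq_zero_or_pos (Nat.card ↥(chevE6.diagonalSubgroup K ⊓ twistedE6 K q)) with h0 | h0
    · rw [h0, mul_zero] at hT
      have := hq.one_lt
      have h7 : 0 < q - 1 := by omega
      have : 0 < (q - 1) ^ 4 * (q + 1) ^ 2 := by positivity
      omega
    · exact h0
  exact Nat.dvd_of_mul_dvd_mul_right h6 h5

end Cfsg.Agent.H59.CrossTw
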