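import Cfsg.Agent.ChevStructure.FieldMap
import Cfsg.Prelude.Def_LieTwisted
import Mathlib
set_option linter.all false

/-!
# `²E₆` and isomorphisms of fields

* `equiv` : a field isomorphism induces an isomorphism of the twisted groups `²E₆`;
* `exists_type` : every finite field is isomorphic to a finite field in `Type`.
-/

set_option autoImplicit false

namespace Cfsg.Agent.H59.ESixField

open Cfsg.Lie
open Cfsg.Agent.ChevStructure.FieldMap

universe u v

variable {F : Type u} {K : Type v} [Field F] [Field K]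

theorem words_map (f : F ≃+* K) (q : ℕ) {w : List (ℕ × F)} (hw : w ∈ e6Words F q) :
    (w.map fun p => (p.1, f p.2)) ∈ e6Words K q := by
  rcases hw with ⟨t, ht, r, hr, rfl⟩ | ⟨t, rs, hrs, rfl⟩
  · left
    refine ⟨f t, by rw [← map_pow, ht], r, hr, rfl⟩
  · right
    refine ⟨f t, rs, hrs, ?_⟩
    simp only [List.map_cons, List.map_nil, map_pow]

theorem le_map (f : F ≃+* K) (q : ℕ) :
    (twistedE6 F q).map (glEquiv chevE6 f).toMonoidHom ≤ twistedE6 K q := by
  rw [twistedE6, ChevalleyDatum.genSubgroup, MonoidHom.map_closure, Subgroup.closure_le]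
  rintro _ ⟨g, ⟨w, hw, hg⟩, rfl⟩
  refine Subgroup.subset_closure ⟨_, words_map f q hw, ?_⟩
  change (glEquiv chevE6 f g : Matrix chevE6.Idx chevE6.Idx K) = _
  rw [glEquiv_coe, hg]
  exact wordMat_map chevE6 (f : F →+* K) w

theorem map_twistedE6 (f : F ≃+* K) (q : ℕ) :
    (twistedE6 F q).map (glEquiv chevE6 f).toMonoidHom = twistedE6 K q := by
  refine le_antisymm (le_map f q) fun g hg => ?_
  refine ⟨(glEquiv chevE6 f).symm g, ?_, (glEquiv chevE6 f).apply_symm_apply g⟩
  have h := le_map f.symm q ⟨g, hg, rfl⟩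
  have e : (glEquiv chevE6 f.symm).toMonoidHom g = (glEquiv chevE6 f).symm g := by
    apply Units.ext
    rfl
  rwa [e] at h

/-- A field isomorphism induces an isomorphism of the twisted groups. -/
noncomputable def equiv (f : F ≃+* K) (q : ℕ) : ↥(twistedE6 F q) ≃* ↥(twistedE6 K q) :=
  ((glEquiv chevE6 f).subgroupMap (twistedE6 F q)).trans (MulEquiv.subgroupCongr (map_twistedE6 f q))

/-- A finite field is isomorphic to a finite field in `Type`. -/
theorem exists_type (F : Type u) [Field F] [Fintype F] :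
    ∃ (K : Type) (_ : Field K) (_ : Fintype K), Nonempty (F ≃+* K) := by
  classical
  obtain ⟨p, hp⟩ := CharP.exists F
  have : Fact p.Prime := ⟨CharP.char_is_prime F p⟩
  obtain ⟨n, -, hn⟩ := FiniteField.card F p
  let _ : Fintype (GaloisField p n) := Fintype.ofFinite _
  refine ⟨GaloisField p n, inferInstance, inferInstance, ⟨FiniteField.ringEquivOfCardEq ?_⟩⟩
  rw [hn, ← Nat.card_eq_fintype_card, GaloisField.card p n n.ne_zero]

end Cfsg.Agent.H59.ESixField
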